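import Groth.Agent.CoprimaryLib.Main

/-!
# Submodules cut out by conditions at a locally finite family of stalks
-/

set_option autoImplicit false
set_option linter.style.haveILetI false
set_option backward.isDefEq.respectTransparency false

universe u

open CategoryTheory CategoryTheory.Limits AlgebraicGeometry TopologicalSpace Opposite
open Groth.Agent.PullbackMod Groth.Agent.CohBase Groth.Agent.QCohLib

noncomputable section

namespace Groth.Agent.CoprimaryLib

variable {X : Scheme.{u}}

/-- Sections of a product of modules are detected by the projections. -/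
theorem pi_sections_ext {ι : Type u} (Z : ι → X.Modules) (V : X.Opens) (s : Γ(∏ᶜ Z, V))
    (h : ∀ i, (Pi.π Z i).app V s = 0) : s = 0 := by
  let E := Scheme.Modules.toPresheaf X ⋙ (evaluation X.Opensᵒᵖ AddCommGrpCat.{u}).obj (op V)
  haveI : PreservesLimitsOfShape (Discrete ι) ((evaluation X.Opensᵒᵖ AddCommGrpCat.{u}).obj (op V)) :=
    inferInstance
  haveI : PreservesLimit (Discrete.functor Z) E := comp_preservesLimit (Scheme.Modules.toPresheaf X) _
  refine Concrete.isLimit_ext _ (isLimitOfPreserves E (limit.isLimit (Discrete.functor Z)))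
    (show (E.mapCone (limit.cone (Discrete.functor Z))).pt from s) 0 fun j ↦ ?_
  rw [map_zero]
  exact h j.as

/-- The kernel of a family of maps, on sections. -/
theorem exists_kernel_pi_lift {M : X.Modules} {ι : Type u} {Z : ι → X.Modules} (f : ∀ i, M ⟶ Z i)
    (V : X.Opens) (s : Γ(M, V)) (h : ∀ i, (f i).app V s = 0) :
    ∃ t, (kernel.ι (Pi.lift f)).app V t = s := by
  refine kernel_app_exact (Pi.lift f) V s (pi_sections_ext Z V _ fun i ↦ ?_)
  exact (congr($(Pi.lift_π f i).app V s)).trans (h i)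

section

variable {M : X.Modules} {A : Set X}
  (S : ∀ x : A, Submodule (X.presheaf.stalk x.1) (M.presheaf.stalk x.1))

/-- Sections whose germs at the points of `A` lie in the given submodules. -/
def subFam : X.Modules := kernel (Pi.lift fun x : A ↦ toSky (S x).mkQ)

/-- The inclusion. -/
def subFamι : subFam S ⟶ M := kernel.ι _

instance mono_subFamι : Mono (subFamι S) := inferInstanceAs (Mono (kernel.ι _))

theorem exists_app_subFamι (V : X.Opens) (s : Γ(M, V)) :
    (∃ t, (subFamι S).app V t = s) ↔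
      ∀ (x : A) (hx : x.1 ∈ V), M.presheaf.germ V x.1 hx s ∈ S x := by
  constructor
  · rintro ⟨t, rfl⟩ x hx
    rw [← Submodule.Quotient.mk_eq_zero (S x)]
    have h0 : subFamι S ≫ toSky (S x).mkQ = 0 := by
      rw [← Pi.lift_π (fun x : A ↦ toSky (S x).mkQ) x, ← Category.assoc]
      exact (congrArg (· ≫ Pi.π _ x) (kernel.condition _)).trans zero_comp
    exact congrFun (congr($(h0).app V t)) ⟨hx⟩
  · intro h
    exact exists_kernel_pi_lift _ V s fun x ↦
      funext fun hx ↦ (Submodule.Quotient.mk_eq_zero (S x)).2 (h x hx.down)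

theorem subFamι_app_injective (V : X.Opens) : Function.Injective ((subFamι S).app V) := by
  haveI := (toAbF X).map_mono (subFamι S)
  exact sections_injective ((toAbF X).map (subFamι S)) V

theorem isQCoh_subFam [Coh.IsQCoh M] (hS : ∀ x, DevLib.Absorbs (S x))
    (hA : ∀ W : X.Opens, IsAffineOpen W → (A ∩ W).Finite) : Coh.IsQCoh (subFam S) := by
  classical
  rw [isQCoh_iff]
  intro W hW
  have l := locAt M hW
  haveI : Finite {x : A // x.1 ∈ W} :=
    haveI := (hA W hW).to_subtype
    Finite.of_injective (fun x : {x : A // x.1 ∈ W} ↦ (⟨x.1.1, x.1.2, x.2⟩ : ↥(A ∩ W)))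
      (fun a b hab ↦ Subtype.ext (Subtype.ext (congrArg Subtype.val hab :)))
  haveI := Fintype.ofFinite {x : A // x.1 ∈ W}
  constructor
  · intro f t
    obtain ⟨n, s, hs⟩ := l.extend f ((subFamι S).app _ t)
    have key : ∀ x : {x : A // x.1 ∈ W}, ∃ k : ℕ, ∀ j, k ≤ j →
        M.presheaf.germ W x.1.1 x.2 (sc (f ^ j) le_rfl s) ∈ S x.1 := by
      rintro ⟨x, hxW⟩
      have hsc : ∀ j : ℕ, M.presheaf.germ W x.1 hxW (sc (f ^ j) le_rfl s) =
          X.presheaf.germ W x.1 hxW f ^ j • M.presheaf.germ W x.1 hxW s := fun j ↦ by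
        rw [sc_le_rfl, ← map_pow]
        exact PresheafOfModules.germ_smul (R := X.presheaf) M.val x.1 W hxW (f ^ j) s
      by_cases hxf : x.1 ∈ X.basicOpen f
      · refine ⟨0, fun j _ ↦ ?_⟩
        rw [hsc]
        refine (S x).smul_mem _ ?_
        have e := congrArg (M.presheaf.germ (X.basicOpen f) x.1 hxf) hs
        rw [← app_sc, M.presheaf.germ_res_apply] at e
        rw [e]
        exact (exists_app_subFamι S _ _).1 ⟨_, rfl⟩ x hxf
      · have ha : X.presheaf.germ W x.1 hxW f ∈ IsLocalRing.maximalIdeal (X.presheaf.stalk x.1) := by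
          rw [IsLocalRing.mem_maximalIdeal, mem_nonunits_iff]
          exact fun hu ↦ hxf ((X.mem_basicOpen f x.1 hxW).2 hu)
        obtain ⟨k, hk⟩ := hS x _ ha (M.presheaf.germ W x.1 hxW s)
        refine ⟨k, fun j hj ↦ ?_⟩
        rw [hsc, ← Nat.sub_add_cancel hj, pow_add, mul_smul]
        exact (S x).smul_mem _ hk
    choose k hk using key
    let K : ℕ := Finset.univ.sup k
    obtain ⟨s', hs'⟩ := (exists_app_subFamι S W (sc (f ^ K) le_rfl s)).2 fun x hx ↦
      hk ⟨x, hx⟩ K (Finset.le_sup (f := k) (Finset.mem_univ _))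
    refine ⟨K + n, s', subFamι_app_injective S _ ?_⟩
    rw [app_res, hs', map_sc, hs, app_sc, pow_add, sc_mul]
  · intro f s hs
    obtain ⟨n, hn⟩ := l.kill f ((subFamι S).app W s) (by rw [← app_res, hs, map_zero])
    exact ⟨n, subFamι_app_injective S _ (by rw [app_sc, hn, map_zero])⟩

theorem isCoh_subFam [IsLocallyNoetherian X] (hM : Coh.IsCoh M) (hS : ∀ x, DevLib.Absorbs (S x))
    (hA : ∀ W : X.Opens, IsAffineOpen W → (A ∩ W).Finite) : Coh.IsCoh (subFam S) :=
  haveI := hM.1
  isCoh_of_mono (subFamι S) hM (isQCoh_subFam S hS hA)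

end

/-- Shrinking a coherent module away from an open set: a submodule equal on `U` none of whose
nonzero sections vanishes on `U`. -/
theorem exists_sub_tf [IsLocallyNoetherian X] {H : X.Modules} (hH : Coh.IsCoh H) (U : X.Opens) :
    ∃ (H' : X.Modules) (j : H' ⟶ H), Mono j ∧ Coh.IsCoh H' ∧
      (∀ V : X.Opens, V ≤ U → Function.Bijective (j.app V)) ∧
      ∀ (V : X.Opens) (s : Γ(H', V)),
        H.presheaf.map (homOfLE (inf_le_left : V ⊓ U ≤ V)).op (j.app V s) = 0 → s = 0 := by
  haveI := hH.1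
  let A : Set X := {x | Curv2.IsAssPoint H x ∧ x ∉ U}
  have hch : ∀ x : A, _ := fun x ↦ exists_coprimary hH (ξ := x.1) x.2.1
  choose S hSa hC hA hinj using hch
  refine ⟨subFam S, subFamι S, inferInstance,
    isCoh_subFam S hH hSa (fun W hW ↦ (AssLib.finite_ass_affine hH hW).subset
      fun x hx ↦ ⟨hx.2, hx.1.1⟩), fun V hVU ↦ ⟨subFamι_app_injective S V, fun s ↦ ?_⟩,
    fun V s hs ↦ ?_⟩
  · exact (exists_app_subFamι S V s).2 fun x hx ↦ absurd (hVU hx) x.2.2
  · refine subFamι_app_injective S V ?_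
    rw [map_zero]
    by_contra hne
    obtain ⟨x, hx, hxa, hg0, k, hk⟩ := exists_ass_germ_torsion hH _ hne
    by_cases hxU : x ∈ U
    · refine hg0 ?_
      rw [← H.presheaf.germ_res_apply (homOfLE (inf_le_left : V ⊓ U ≤ V)) x ⟨hx, hxU⟩, hs, map_zero]
    · exact hg0 (hinj ⟨x, hxa, hxU⟩ _ ((exists_app_subFamι S V _).1 ⟨s, rfl⟩ ⟨x, hxa, hxU⟩ hx) k hk)

end Groth.Agent.CoprimaryLib
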