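import Groth.Agent.DevLib.Piece
import Groth.Agent.AssLib.Noetherian
import Groth.Prelude.Def_FDesc

/-!
# Coprimary quotients of coherent modules
-/

set_option autoImplicit false
set_option linter.style.haveILetI false
set_option backward.isDefEq.respectTransparency false

universe u

open CategoryTheory CategoryTheory.Limits AlgebraicGeometry TopologicalSpace Opposite
open Groth.Agent.PullbackMod Groth.Agent.CohBase Groth.Agent.QCohLib

noncomputable section

namespace Groth.Agent.CoprimaryLib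

/-- In a finite module over a Noetherian ring some power of an ideal meets the elements killed by
powers of the ideal trivially, and is proper if the ideal is in the Jacobson radical. -/
theorem exists_pow_inf_torsion {R M : Type u} [CommRing R] [IsNoetherianRing R] [AddCommGroup M]
    [Module R M] [Module.Finite R M] (I : Ideal R) :
    ∃ n : ℕ, 1 ≤ n ∧ ∀ z ∈ I ^ n • (⊤ : Submodule R M),
      ∀ k : ℕ, (∀ a ∈ I ^ k, a • z = 0) → z = 0 := by
  haveI : IsNoetherian R M := isNoetherian_of_isNoetherianRing_of_finite R M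
  let T : ℕ →o Submodule R M := ⟨fun k ↦ Submodule.torsionBySet R M ((I ^ k : Ideal R) : Set R),
    fun a b hab z hz ↦ by
      rw [Submodule.mem_torsionBySet_iff] at hz ⊢
      exact fun c ↦ hz ⟨c.1, Ideal.pow_le_pow_right hab c.2⟩⟩
  obtain ⟨K, hK⟩ := monotone_stabilizes_iff_noetherian.mpr ‹IsNoetherian R M› T
  obtain ⟨c, hc⟩ := Ideal.exists_pow_inf_eq_pow_smul I (T K)
  refine ⟨c + (K + 1), by omega, fun z hz k hk ↦ ?_⟩
  have hzK : z ∈ T K := by
    have h : z ∈ T (max K k) := (T.mono (le_max_right K k))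
      ((Submodule.mem_torsionBySet_iff _ _).mpr fun a ↦ hk a.1 a.2)
    rwa [hK (max K k) (le_max_left _ _)]
  have h2 : z ∈ I ^ (c + (K + 1)) • (⊤ : Submodule R M) ⊓ T K := ⟨hz, hzK⟩
  rw [hc _ (Nat.le_add_right _ _), Nat.add_sub_cancel_left] at h2
  have h3 : I ^ (K + 1) • (I ^ c • (⊤ : Submodule R M) ⊓ T K) ≤ ⊥ := by
    refine Submodule.smul_le.mpr fun a ha w hw ↦ (Submodule.mem_bot R).mpr ?_
    exact (Submodule.mem_torsionBySet_iff _ _).mp hw.2 ⟨a, Ideal.pow_le_pow_right (Nat.le_succ K) ha⟩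
  exact (Submodule.mem_bot R).mp (h3 h2)

variable {X : Scheme.{u}} [IsLocallyNoetherian X] {M : X.Modules}

/-- A nonzero section has a germ at an associated point which is nonzero and killed by a power of
the maximal ideal. -/
theorem exists_ass_germ_torsion (hM : Coh.IsCoh M) {V : X.Opens} (s : Γ(M, V)) (hs : s ≠ 0) :
    ∃ (x : X) (hx : x ∈ V), Curv2.IsAssPoint M x ∧ M.presheaf.germ V x hx s ≠ 0 ∧
      ∃ k : ℕ, ∀ a ∈ IsLocalRing.maximalIdeal (X.presheaf.stalk x) ^ k,
        a • M.presheaf.germ V x hx s = 0 := by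
  haveI := hM.1
  obtain ⟨y, hy, hys⟩ : ∃ (y : X) (hy : y ∈ V), M.presheaf.germ V y hy s ≠ 0 := by
    by_contra hc
    push Not at hc
    exact hs (AssLib.eq_zero_of_germ M s hc)
  obtain ⟨W, hW, hyW, hWV⟩ := AssLib.exists_affine_mem y hy
  haveI := QCohLib.isNoetherianRing_section hW
  let t : Γ(M, W) := M.presheaf.map (homOfLE hWV).op s
  have hgt : ∀ (z : X) (hz : z ∈ W), M.presheaf.germ W z hz t =
      M.presheaf.germ V z (hWV hz) s := fun z hz ↦ M.presheaf.germ_res_apply _ _ _ s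
  let J : Ideal Γ(X, W) := (⊥ : Submodule Γ(X, W) Γ(M, W)).colon {t}
  have hJ : ∀ a, a ∈ J ↔ a • t = 0 := fun a ↦ by
    rw [Submodule.mem_colon_singleton, Submodule.mem_bot]
  have hJy : J ≤ AssLib.pr hW hyW := fun a ha ↦ by
    by_contra hay
    exact hys ((hgt y hyW).symm.trans
      ((AssLib.germ_eq_zero_iff hW hyW t).mpr ⟨a, hay, (hJ a).mp ha⟩))
  obtain ⟨P, hP, -⟩ := Ideal.exists_minimalPrimes_le hJy
  haveI := hP.1.1
  let q : PrimeSpectrum Γ(X, W) := ⟨P, hP.1.1⟩
  let x := AssLib.pt hW q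
  have hxW : x ∈ W := AssLib.pt_mem hW q
  have hprx : AssLib.pr hW hxW = P := AssLib.pr_pt hW q
  have hne : M.presheaf.germ V x (hWV hxW) s ≠ 0 := by
    rw [← hgt x hxW]
    intro h0
    obtain ⟨a, haP, ha⟩ := (AssLib.germ_eq_zero_iff hW hxW t).mp h0
    rw [hprx] at haP
    exact haP (hP.1.2 ((hJ a).mpr ha))
  refine ⟨x, hWV hxW, ?_, hne, ?_⟩
  · obtain ⟨z, hzV, hzx, hz, hzs⟩ := AssLib.exists_isAssPoint s (hWV hxW) hne
    have hzW : z ∈ W := hzx.mem_open W.2 hxW
    have hle : AssLib.pr hW hzW ≤ P := hprx ▸ (AssLib.specializes_iff hW hxW hzW).mp hzx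
    have hJz : J ≤ AssLib.pr hW hzW := fun a ha ↦ by
      by_contra haz
      exact hzs ((hgt z hzW).symm.trans
        ((AssLib.germ_eq_zero_iff hW hzW t).mpr ⟨a, haz, (hJ a).mp ha⟩))
    have hge : P ≤ AssLib.pr hW hzW := hP.2 ⟨inferInstance, hJz⟩ hle
    have hxz : x = z := ((
      ((AssLib.specializes_iff hW hzW hxW).mpr (hprx ▸ hge))).antisymm hzx).eq
    rwa [hxz]
  · letI : Algebra Γ(X, W) (X.presheaf.stalk x) :=
      TopCat.Presheaf.algebra_section_stalk X.presheaf ⟨x, hxW⟩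
    haveI := hW.isLocalization_stalk ⟨x, hxW⟩
    haveI : IsNoetherianRing (X.presheaf.stalk x) :=
      IsLocalization.isNoetherianRing (AssLib.pr hW hxW).primeCompl (X.presheaf.stalk x) inferInstance
    let C : Ideal (X.presheaf.stalk x) :=
      (⊥ : Submodule (X.presheaf.stalk x) (M.presheaf.stalk x)).colon {M.presheaf.germ W x hxW t}
    have hrad : IsLocalRing.maximalIdeal (X.presheaf.stalk x) ≤ C.radical := by
      rw [← IsLocalization.AtPrime.map_eq_maximalIdeal (AssLib.pr hW hxW) (X.presheaf.stalk x),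
        Ideal.map_le_iff_le_comap]
      intro a ha
      rw [hprx] at ha
      obtain ⟨b, hb, k, hk⟩ : ∃ b ∉ P, ∃ k : ℕ, b * a ^ k ∈ J := by
        by_contra hc
        push Not at hc
        let S : Submonoid Γ(X, W) :=
          { carrier := {c | ∃ b ∉ P, ∃ k : ℕ, c = b * a ^ k}
            one_mem' := ⟨1, fun h ↦ hP.1.1.ne_top ((Ideal.eq_top_iff_one P).mpr h), 0, by simp⟩
            mul_mem' := by
              rintro _ _ ⟨b, hb, k, rfl⟩ ⟨b', hb', k', rfl⟩
              exact ⟨b * b', fun h ↦ (hP.1.1.mem_or_mem h).elim hb hb', k + k', by ring⟩ }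
        have hdis : Disjoint (J : Set Γ(X, W)) S := by
          rw [Set.disjoint_left]
          rintro c hcJ ⟨b, hb, k, rfl⟩
          exact hc b hb k hcJ
        obtain ⟨Q, hQ, hJQ, hQS⟩ := Ideal.exists_le_prime_disjoint J S hdis
        have hQP : Q ≤ P := fun c hcQ ↦ by
          by_contra hcP
          exact Set.disjoint_left.mp hQS hcQ ⟨c, hcP, 0, by simp⟩
        have haQ : a ∈ Q := hP.2 ⟨hQ, hJQ⟩ hQP ha
        exact Set.disjoint_left.mp hQS haQ
          ⟨1, fun h ↦ hP.1.1.ne_top ((Ideal.eq_top_iff_one P).mpr h), 1, by simp⟩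
      refine ⟨k, ?_⟩
      have hu : IsUnit (algebraMap Γ(X, W) (X.presheaf.stalk x) b) :=
        IsLocalization.map_units (X.presheaf.stalk x)
          (⟨b, by rw [Ideal.mem_primeCompl_iff, hprx]; exact hb⟩ : (AssLib.pr hW hxW).primeCompl)
      rw [← map_pow, Submodule.mem_colon_singleton, Submodule.mem_bot, ← hu.smul_eq_zero,
        smul_smul, ← map_mul]
      refine (PresheafOfModules.germ_smul (R := X.presheaf) M.val x W hxW (b * a ^ k) t).symm.trans ?_
      exact (congrArg (M.presheaf.germ W x hxW) ((hJ _).mp hk)).trans (map_zero _)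
    obtain ⟨k, hk⟩ := Ideal.exists_pow_le_of_le_radical_of_fg hrad (IsNoetherian.noetherian _)
    refine ⟨k, fun a ha ↦ ?_⟩
    rw [← hgt x hxW]
    exact (Submodule.mem_bot _).mp (Submodule.mem_colon_singleton.mp (hk ha))

/-- Associated points of the quotient by a stalk condition lie at the point. -/
theorem eq_of_isAssPoint_coker {ξ : X} (hM : Coh.IsCoh M)
    (S : Submodule (X.presheaf.stalk ξ) (M.presheaf.stalk ξ)) {y : X}
    (h : Curv2.IsAssPoint (cokernel (DevLib.subAtι S)) y) : y = ξ := by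
  haveI := hM.1
  by_cases hξy : ξ ⤳ y
  swap
  · haveI := DevLib.subsingleton_coker (DevLib.subAtι S) (DevLib.surjective_stalk_subAtι S hξy)
    exact absurd h not_isAssociatedPrime_of_subsingleton
  by_contra hne
  obtain ⟨-, t, ht⟩ := isAssociatedPrime_iff.mp h
  obtain ⟨z, hz⟩ := DevLib.coker_surjective (DevLib.subAtι S) y t
  obtain ⟨U, hyU, s, rfl⟩ := TopCat.Presheaf.exists_germ_eq M.presheaf z
  obtain ⟨W, hW, hyW, hWU⟩ := AssLib.exists_affine_mem y hyU
  have hξW : ξ ∈ W := hξy.mem_open W.2 hyW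
  obtain ⟨f, hfy, hfξ⟩ : ∃ f ∈ AssLib.pr hW hyW, f ∉ AssLib.pr hW hξW := by
    by_contra hc
    push Not at hc
    exact hne ((((AssLib.specializes_iff hW hξW hyW).mpr hc)).antisymm hξy).eq
  let s' : Γ(M, W) := M.presheaf.map (homOfLE hWU).op s
  have hgs : ∀ (w : X) (hw : w ∈ W), M.presheaf.germ W w hw s' = M.presheaf.germ U w (hWU hw) s :=
    fun w hw ↦ M.presheaf.germ_res_apply _ _ _ s
  have hfm : X.presheaf.germ W y hyW f ∈ IsLocalRing.maximalIdeal (X.presheaf.stalk y) := by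
    rw [← AssLib.under_maximalIdeal hW hyW] at hfy
    exact hfy
  have hfu : IsUnit (X.presheaf.germ W ξ hξW f) := by
    rw [← AssLib.under_maximalIdeal hW hξW] at hfξ
    exact IsLocalRing.notMem_maximalIdeal.mp hfξ
  rw [ht, Submodule.mem_colon_singleton, Submodule.mem_bot, ← hz, ← map_smul] at hfm
  obtain ⟨v, hv⟩ := (DevLib.coker_exact (DevLib.subAtι S) y _).mp hfm
  obtain ⟨U', hyU', p, rfl⟩ := TopCat.Presheaf.exists_germ_eq (DevLib.subAt S).presheaf v
  rw [stalkLin_germ, ← hgs y hyW, show (X.presheaf.germ W y hyW f) • M.presheaf.germ W y hyW s' =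
    M.presheaf.germ W y hyW (f • s') from
      (PresheafOfModules.germ_smul (R := X.presheaf) M.val y W hyW f s').symm] at hv
  obtain ⟨W', hyW', i₁, i₂, hres⟩ := TopCat.Presheaf.germ_eq M.presheaf y hyU' hyW _ _ hv
  have hξW' : ξ ∈ W' := hξy.mem_open W'.2 hyW'
  have h1 : M.presheaf.germ W ξ hξW (f • s') ∈ S := by
    rw [← M.presheaf.germ_res_apply i₂ ξ hξW', ← hres, M.presheaf.germ_res_apply i₁ ξ hξW']
    exact (DevLib.exists_app_subAtι S U' _).1 ⟨p, rfl⟩ _
  rw [show M.presheaf.germ W ξ hξW (f • s') = X.presheaf.germ W ξ hξW f • M.presheaf.germ W ξ hξW s'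
    from PresheafOfModules.germ_smul (R := X.presheaf) M.val ξ W hξW f s'] at h1
  have h2 : M.presheaf.germ W ξ hξW s' ∈ S := by
    have := S.smul_mem (↑hfu.unit⁻¹ : X.presheaf.stalk ξ) h1
    rwa [smul_smul, IsUnit.val_inv_mul, one_smul] at this
  obtain ⟨r, hr⟩ := (DevLib.exists_app_subAtι S W s').2 fun _ ↦ h2
  have ht0 : t = 0 := by
    rw [← hz]
    refine (DevLib.coker_exact (DevLib.subAtι S) y _).mpr
      ⟨(DevLib.subAt S).presheaf.germ W y hyW r, ?_⟩
    rw [stalkLin_germ, hr]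
    exact hgs y hyW
  refine (IsLocalRing.maximalIdeal.isMaximal (X.presheaf.stalk y)).ne_top (ht.trans ?_)
  rw [ht0]
  exact eq_top_iff.mpr fun a _ ↦ Submodule.mem_colon_singleton.mpr
    ((Submodule.mem_bot _).mpr (smul_zero a))

/-- The coprimary quotient at an associated point. -/
theorem exists_coprimary (hM : Coh.IsCoh M) {ξ : X} (hξ : Curv2.IsAssPoint M ξ) :
    ∃ S : Submodule (X.presheaf.stalk ξ) (M.presheaf.stalk ξ), DevLib.Absorbs S ∧
      Coh.IsCoh (cokernel (DevLib.subAtι S)) ∧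
      AssSch.Ass (cokernel (DevLib.subAtι S)) = {ξ} ∧
      ∀ z ∈ S, ∀ k : ℕ,
        (∀ a ∈ IsLocalRing.maximalIdeal (X.presheaf.stalk ξ) ^ k, a • z = 0) → z = 0 := by
  haveI := hM.1
  obtain ⟨W, hW, hξW, -⟩ := AssLib.exists_affine_mem ξ (U := ⊤) trivial
  haveI := QCohLib.isNoetherianRing_section hW
  haveI := QCohLib.finite_sections_of_isCoh hM hW
  letI := Module.compHom (M.presheaf.stalk ξ) (X.presheaf.germ W ξ hξW).hom
  obtain ⟨g, hg⟩ := GenFree.exists_isLocalizedModule_germ M hW ξ hξW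
  haveI := hg
  letI : Algebra Γ(X, W) (X.presheaf.stalk ξ) :=
    TopCat.Presheaf.algebra_section_stalk X.presheaf ⟨ξ, hξW⟩
  haveI := hW.isLocalization_stalk ⟨ξ, hξW⟩
  haveI : IsScalarTower Γ(X, W) (X.presheaf.stalk ξ) (M.presheaf.stalk ξ) :=
    .of_algebraMap_smul fun _ _ ↦ rfl
  haveI : IsNoetherianRing (X.presheaf.stalk ξ) :=
    IsLocalization.isNoetherianRing (AssLib.pr hW hξW).primeCompl (X.presheaf.stalk ξ) inferInstance
  haveI : Module.Finite (X.presheaf.stalk ξ) (M.presheaf.stalk ξ) :=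
    Module.Finite.of_isLocalizedModule (AssLib.pr hW hξW).primeCompl g
  obtain ⟨n, hn1, hn⟩ := exists_pow_inf_torsion (M := M.presheaf.stalk ξ)
    (IsLocalRing.maximalIdeal (X.presheaf.stalk ξ))
  let S : Submodule (X.presheaf.stalk ξ) (M.presheaf.stalk ξ) :=
    IsLocalRing.maximalIdeal (X.presheaf.stalk ξ) ^ n • ⊤
  have hS : DevLib.Absorbs S := fun a ha z ↦
    ⟨n, Submodule.smul_mem_smul (Ideal.pow_mem_pow ha n) Submodule.mem_top⟩
  have hC : Coh.IsCoh (cokernel (DevLib.subAtι S)) :=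
    (isCoh_kernel_cokernel _ (DevLib.isCoh_subAt hM hS) hM).2
  refine ⟨S, hS, hC, Set.Subset.antisymm (fun y hy ↦ eq_of_isAssPoint_coker hM S hy) ?_, hn⟩
  rw [Set.singleton_subset_iff]
  haveI := hC.1
  have hnt : Nontrivial ↑((cokernel (DevLib.subAtι S)).presheaf.stalk ξ) := by
    by_contra hsub
    rw [not_nontrivial_iff_subsingleton] at hsub
    haveI := AssLib.nontrivial_of_isAssPoint hξ
    have hST : S = ⊤ := eq_top_iff.mpr fun z _ ↦ by
      rw [← DevLib.range_stalk_subAtι S]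
      exact (DevLib.coker_exact (DevLib.subAtι S) ξ z).mp (Subsingleton.elim _ _)
    have htop : (⊤ : Submodule (X.presheaf.stalk ξ) (M.presheaf.stalk ξ)) = ⊥ := by
      refine Submodule.eq_bot_of_le_smul_of_le_jacobson_bot
        (IsLocalRing.maximalIdeal (X.presheaf.stalk ξ)) ⊤ Module.Finite.fg_top ?_
        (IsLocalRing.maximalIdeal_le_jacobson _)
      calc (⊤ : Submodule (X.presheaf.stalk ξ) (M.presheaf.stalk ξ)) = S := hST.symm
        _ ≤ _ := Submodule.smul_mono_left (Ideal.pow_le_self (by omega))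
    exact top_ne_bot htop
  obtain ⟨y, -, hy⟩ := AssLib.exists_isAssPoint_of_nontrivial hnt
  have e := eq_of_isAssPoint_coker hM S hy
  exact e ▸ hy

/-- A family of coprimary quotients, jointly injective on sections. -/
theorem exists_family (hM : Coh.IsCoh M) :
    ∃ (G : AssSch.Ass M → X.Modules) (q : ∀ x, M ⟶ G x),
      (∀ x, Epi (q x)) ∧ (∀ x, Coh.IsCoh (G x)) ∧ (∀ x, AssSch.Ass (G x) = {x.1}) ∧
      ∀ (V : X.Opens) (s : Γ(M, V)), (∀ x : AssSch.Ass M, x.1 ∈ V → (q x).app V s = 0) → s = 0 := by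
  have hch : ∀ x : AssSch.Ass M, _ := fun x ↦ exists_coprimary hM x.2
  choose S hSa hC hA hinj using hch
  refine ⟨fun x ↦ cokernel (DevLib.subAtι (S x)), fun x ↦ cokernel.π _, fun x ↦ inferInstance,
    hC, hA, fun V s hs ↦ ?_⟩
  by_contra hne
  obtain ⟨x, hx, hxa, hg0, k, hk⟩ := exists_ass_germ_torsion hM s hne
  refine hg0 (hinj ⟨x, hxa⟩ _ ?_ k hk)
  rw [← DevLib.range_stalk_subAtι (S ⟨x, hxa⟩)]
  refine (DevLib.coker_exact (DevLib.subAtι (S ⟨x, hxa⟩)) x _).mp ?_
  rw [stalkLin_germ]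
  exact (congrArg _ (hs ⟨x, hxa⟩ hx)).trans (map_zero _)

end Groth.Agent.CoprimaryLib
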